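import Cfsg.Agent.H562.PQR.Assemble
import Cfsg.Agent.H528.PQR.RankOne
import Cfsg.Agent.H900.PQR.Psl
import Cfsg.Agent.H973.PQR.PSp
import Cfsg.Agent.H151.PQR.Row
import Cfsg.Agent.H877.PQROrth
import Cfsg.Agent.H206.PQR.RowAlt
import Cfsg.Agent.H963.PQR.GTwoThree
import Cfsg.Agent.H963.PQR.TriD
import Cfsg.Agent.H759.PQR.Mathieu
import Cfsg.Agent.H984.PQR.RowJ1
import Cfsg.Agent.H984.PQR.RowJ2
import Cfsg.Agent.H984.PQR.RowJ3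
import Cfsg.Agent.H796.PQR.RowJFour
import Cfsg.Agent.H831.PQR.RowsCo
import Cfsg.Agent.H536.PQR.Suz
import Cfsg.Agent.H536.PQR.He
import Cfsg.Agent.H536.PQR.Ru
import Cfsg.Agent.H660.RowLy
import Cfsg.Agent.H660.RowHN
import Cfsg.Agent.H440.PQR.ON
import Cfsg.Agent.H588.PQR.Th
import Cfsg.Agent.H517.PQR.Fi22
import Cfsg.Agent.H517.PQR.Fi23
import Cfsg.Agent.H587.PQR.Fi24
import Cfsg.Agent.H934.PQR.Final
import Cfsg.Agent.H934.PQR.FinalE6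
import Cfsg.Agent.H628.PQR.TwF
import Cfsg.Agent.H628.PQR.Tits

/-!
# S3988 (helper562): the rows of the known simple groups

`rowsOdd` : all rows for the odd primes, from the rows of `B`, `M`.
-/

set_option autoImplicit false

namespace Cfsg.Agent.H562.PQR

open Cfsg

/-- **the rows for the odd primes**, from the two last ones -/
theorem rowsOdd
    (b : RowOdd Spor.BabyMonster) (m : RowOdd Spor.Monster) : RowsOdd where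
  alt := fun _ hn => Cfsg.Agent.H206.PQR.RowAlt.row_alt hn
  psl2 := fun F _ _ hF => (Cfsg.Agent.H528.PQR.row_psl2 F hF).odd
  psl := fun F _ _ _ hn => Cfsg.Agent.H900.PQR.row_psl hn F
  psp := fun _ _ _ _ hm _ => Cfsg.Agent.H973.PQR.row_psp hm
  psu := fun F _ _ n q hF hn h => Cfsg.Agent.H151.PQR.row_psu F n q hF hn h
  omegaOdd := fun F i j m hm ho => Cfsg.Agent.H877.PQROrth.row_omega_odd ⟨F, i, j, m, hm, ho, ⟨MulEquiv.refl _⟩⟩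
  omegaPlus := fun F i j m hm => Cfsg.Agent.H877.PQROrth.row_omega_plus ⟨F, i, j, m, hm, ⟨MulEquiv.refl _⟩⟩
  omegaMinus := fun F i j m a b hm hab =>
    Cfsg.Agent.H877.PQROrth.row_omega_minus ⟨F, i, j, m, a, b, hm, hab, ⟨MulEquiv.refl _⟩⟩
  g2 := fun F i j hF => Cfsg.Agent.H963.PQR.row_G2 ⟨F, i, j, hF, ⟨MulEquiv.refl _⟩⟩
  f4 := fun F i j => Cfsg.Agent.H934.PQR.row_F4 ⟨F, i, j, ⟨MulEquiv.refl _⟩⟩
  e6 := fun F i j => Cfsg.Agent.H934.PQR.row_E6 ⟨F, i, j, ⟨MulEquiv.refl _⟩⟩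
  e7 := fun F i j => Cfsg.Agent.H934.PQR.row_E7 ⟨F, i, j, ⟨MulEquiv.refl _⟩⟩
  e8 := fun F i j => Cfsg.Agent.H934.PQR.row_E8 ⟨F, i, j, ⟨MulEquiv.refl _⟩⟩
  e6t := fun K i j q hq hK => Cfsg.Agent.H934.PQR.row_2E6 ⟨K, i, j, q, hq, hK, ⟨MulEquiv.refl _⟩⟩
  d4t := fun K i j q hq hK => Cfsg.Agent.H963.PQR.row_3D4 ⟨K, i, j, q, hq, hK, ⟨MulEquiv.refl _⟩⟩
  sz := fun F i j m hm hF => (Cfsg.Agent.H528.PQR.row_sz ⟨F, i, j, m, hm, hF, ⟨MulEquiv.refl _⟩⟩).odd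
  ree := fun K i j m hm hK => Cfsg.Agent.H528.PQR.row_ree ⟨K, i, j, m, hm, hK, ⟨MulEquiv.refl _⟩⟩
  f4t := fun K i j m hm hK => Cfsg.Agent.H628.PQR.TwF.row_2F4 ⟨K, i, j, m, hm, hK, ⟨MulEquiv.refl _⟩⟩
  tits := Cfsg.Agent.H628.PQR.Tits.row_titsGroup
  m11 := Cfsg.Agent.H759.PQR.row_M11
  m12 := Cfsg.Agent.H759.PQR.row_M12
  m22 := Cfsg.Agent.H759.PQR.row_M22
  m23 := Cfsg.Agent.H759.PQR.row_M23
  m24 := Cfsg.Agent.H759.PQR.row_M24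
  j1 := Cfsg.Agent.H984.PQR.RowJ1.row_J1
  j2 := Cfsg.Agent.H984.PQR.RowJ2.row_J2
  j3 := fun _ _ _ _ hF hω => Cfsg.Agent.H984.PQR.RowJ3.row_J3 hF hω
  j4 := Cfsg.Agent.H796.PQR.RowJFour.row_J4
  co1 := Cfsg.Agent.H831.PQR.row_Co1
  co2 := Cfsg.Agent.H831.PQR.row_Co2
  co3 := Cfsg.Agent.H831.PQR.row_Co3
  mcl := Cfsg.Agent.H831.PQR.row_McL
  hs := Cfsg.Agent.H831.PQR.row_HS
  suz := Cfsg.Agent.H536.PQR.Suz.row_Suz
  he := Cfsg.Agent.H536.PQR.He.row_He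
  ru := Cfsg.Agent.H536.PQR.Ru.row_Ru
  on := Cfsg.Agent.H440.PQR.ON.row_ON
  ly := Cfsg.Agent.H660.RowLy.row_Ly
  fi22 := Cfsg.Agent.H517.PQR.row_Fi22
  fi23 := Cfsg.Agent.H517.PQR.row_Fi23
  fi24 := Cfsg.Agent.H587.PQR.Fi24.row_Fi24'
  hn := Cfsg.Agent.H660.RowHN.row_HN
  th := Cfsg.Agent.H588.PQRTh.row_Th
  b := b
  m := m

end Cfsg.Agent.H562.PQR
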