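import Cfsg.Agent.H562.PQR.AllRows
import Cfsg.Agent.H562.PQR.Lift
import Cfsg.Agent.H296.PQ.Two
import Cfsg.Agent.S0000

/-!
# S3988 (helper562): the theorem from the rows
-/

set_option autoImplicit false

namespace Cfsg.Agent.H562.PQR

open Cfsg

universe u

/-- **all rows**, from the rows for the odd primes -/
theorem RowsOdd.all (R : RowsOdd) (S : Type u) [Group S] [Finite S] [IsSimpleGroup S] (hna : ∃ x y : S, x * y ≠ y * x) :
    Row S := by
  refine R.row ?_ Cfsg.Agent.S0000.result ?_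
  · intro hp
    have : Fact (Nat.card S).Prime := ⟨hp⟩
    have : IsCyclic S := isCyclic_of_prime_card rfl
    obtain ⟨x, y, hxy⟩ := hna
    exact hxy (@CommGroup.mul_comm S (IsCyclic.commGroup) x y)
  · exact Cfsg.Agent.H296.PQ.trip_two hna (fun F _ _ hF => Cfsg.Agent.H528.PQR.row_psl2 F hF)
      (fun T _ h => Cfsg.Agent.H528.PQR.row_sz h) (fun F _ _ hF => Cfsg.Agent.H900.PQR.row_psl33 hF)

/-- **S3988**, from the rows for the odd primes -/
theorem RowsOdd.final (R : RowsOdd) {G : Type u} [Group G] [Finite G] (p : ℕ) [Fact p.Prime] :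
    Cfsg.IsPSolvable p G ↔ ∀ q r : ℕ, q.Prime → r.Prime → q ≠ r → q ≠ p → r ≠ p → ∀ x y z : G, x ≠ 1 →
      (∃ a : ℕ, orderOf x = p ^ a) → y ≠ 1 → (∃ b : ℕ, orderOf y = q ^ b) → z ≠ 1 → (∃ c : ℕ, orderOf z = r ^ c) →
      x * y * z ≠ 1 :=
  Cfsg.Agent.H410.PQR.reduce (fun S _ _ _ hna => R.all S hna) Lift.lift_of_clift p

end Cfsg.Agent.H562.PQR
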