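import Mathlib
import Cfsg.Prelude.Def_Local
import Cfsg.Agent.H80.Fpf.Mult
import Cfsg.Agent.PLocal.PSolvable

/-!
# S3988 (helper562): the interface of the rows

`TripABC a b c S` : `S` has nontrivial elements `x`, `y`, `z` of `a`-, `b`-, `c`-power order with `x y z = 1`, and the
triple lifts to the central extensions of `S` by `s`-groups, `s ∉ {2, a, b, c}` (automatic if `s` does not divide the
order of the Schur multiplier).
`NotMin p S` : a proper subgroup of `S` is not `p`-solvable.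
`Row S` : for each prime `p` dividing `|S|`: `NotMin p S` or a triple of type `(a, b, c)` with `2, p ∈ {a, b, c}`.
`RowOdd S` : the same for the odd primes (`p = 2` follows from the list of the minimal simple groups).
-/

set_option autoImplicit false

namespace Cfsg.Agent.H562.PQR

open Cfsg.Agent.H80.Fpf (IsCover MultDvd)

universe u v w

/-- `x ≠ 1` has `a`-power order -/
def PE (a : ℕ) {G : Type u} [Group G] (x : G) : Prop := x ≠ 1 ∧ ∃ k : ℕ, orderOf x = a ^ k

/-- the triple lifts to the perfect central extensions of `S` by `s`-groups -/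
def CLift (s : ℕ) {S : Type v} [Group S] (x y z : S) : Prop :=
  ∀ (Γ : Type) [Group Γ] [Finite Γ] (π : Γ →* S), IsCover π → IsPGroup s π.ker →
    ∃ x' y' z' : Γ, π x' = x ∧ π y' = y ∧ π z' = z ∧ x' * y' * z' = 1 ∧
      ¬ s ∣ orderOf x' ∧ ¬ s ∣ orderOf y' ∧ ¬ s ∣ orderOf z'

/-- a triple of type `(a, b, c)` with central lifting for the odd primes `s ≠ a, b, c` -/
def TripABC (a b c : ℕ) (S : Type v) [Group S] : Prop :=
  a.Prime ∧ b.Prime ∧ c.Prime ∧ a ≠ b ∧ a ≠ c ∧ b ≠ c ∧ ∃ x y z : S, PE a x ∧ PE b y ∧ PE c z ∧ x * y * z = 1 ∧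
    ∀ s : ℕ, s.Prime → s ≠ 2 → s ≠ a → s ≠ b → s ≠ c → s ∣ Nat.card S → CLift s x y z

/-- a triple with `2` and `p` among the primes -/
def Trip (p : ℕ) (S : Type v) [Group S] : Prop :=
  ∃ a b c : ℕ, (p = a ∨ p = b ∨ p = c) ∧ (2 = a ∨ 2 = b ∨ 2 = c) ∧ TripABC a b c S

/-- a proper subgroup is not `p`-solvable -/
def NotMin (p : ℕ) (S : Type v) [Group S] : Prop := ∃ H : Subgroup S, H ≠ ⊤ ∧ ¬ Cfsg.IsPSolvable p H

/-- the row -/
def Row (S : Type v) [Group S] : Prop := ∀ p : ℕ, p.Prime → p ∣ Nat.card S → NotMin p S ∨ Trip p S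

/-- the row for the odd primes -/
def RowOdd (S : Type v) [Group S] : Prop := ∀ p : ℕ, p.Prime → p ≠ 2 → p ∣ Nat.card S → NotMin p S ∨ Trip p S

section Basic

variable {S : Type v} [Group S] {T : Type w} [Group T] {a b c s : ℕ}

theorem PE.congr (e : S ≃* T) {x : S} (h : PE a x) : PE a (e x) := by
  obtain ⟨h1, k, hk⟩ := h
  refine ⟨fun h2 => h1 (e.injective (by rw [h2, map_one])), k, ?_⟩
  rw [← hk]
  exact e.orderOf_eq x

theorem PE.inv {x : S} (h : PE a x) : PE a x⁻¹ := ⟨inv_ne_one.2 h.1, by rw [orderOf_inv]; exact h.2⟩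

theorem PE.conj {x : S} (h : PE a x) (g : S) : PE a (g * x * g⁻¹) := by
  have h1 : g * x * g⁻¹ = MulAut.conj g x := rfl
  rw [h1]
  exact PE.congr (MulAut.conj g) h

theorem PE.of_orderOf (ha : a.Prime) {x : S} (h : orderOf x = a) : PE a x := by
  refine ⟨fun h1 => ?_, 1, by rw [pow_one, h]⟩
  rw [h1, orderOf_one] at h
  exact ha.one_lt.ne h

theorem PE.not_dvd (ha : a.Prime) (hs : s.Prime) (hsa : s ≠ a) {x : S} (h : PE a x) : ¬ s ∣ orderOf x := by
  obtain ⟨-, k, hk⟩ := h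
  rw [hk]
  exact fun h1 => hsa ((Nat.prime_dvd_prime_iff_eq hs ha).1 (hs.dvd_of_dvd_pow h1))

/-- an element of order prime to `s` stays of the same order modulo an `s`-group -/
theorem orderOf_eq_of_not_dvd {Γ : Type u} [Group Γ] [Finite Γ] {π : Γ →* S} (hs : s.Prime) (hk : IsPGroup s π.ker)
    {x' : Γ} (h : ¬ s ∣ orderOf x') : orderOf (π x') = orderOf x' := by
  apply Nat.dvd_antisymm (orderOf_map_dvd π x')
  have h1 : x' ^ orderOf (π x') ∈ π.ker := by rw [MonoidHom.mem_ker, map_pow, pow_orderOf_eq_one]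
  obtain ⟨j, hj⟩ := hk ⟨_, h1⟩
  have h2 : (x' ^ orderOf (π x')) ^ s ^ j = 1 := congrArg Subtype.val hj
  rw [← pow_mul] at h2
  have h3 := orderOf_dvd_of_pow_eq_one h2
  exact (Nat.Coprime.pow_right j ((Nat.coprime_comm.1 ((hs.coprime_iff_not_dvd).2 h)))).dvd_of_dvd_mul_right h3

/-- automatic central lifting -/
theorem CLift.of_mult {m : ℕ} (hs : s.Prime) (hm : MultDvd S m) (hsm : ¬ s ∣ m) {x y z : S} (h : x * y * z = 1)
    (hx : ¬ s ∣ orderOf x) (hy : ¬ s ∣ orderOf y) (hz : ¬ s ∣ orderOf z) : CLift s x y z := by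
  intro Γ _ _ π hπ hk
  have : Fact s.Prime := ⟨hs⟩
  have h1 : π.ker = ⊥ := by
    obtain ⟨n, hn⟩ := IsPGroup.iff_card.1 hk
    have h2 := hm Γ π hπ
    rw [hn] at h2
    have h3 : n = 0 := by
      by_contra h3
      exact hsm ((dvd_pow_self s h3).trans h2)
    rw [h3, pow_zero] at hn
    exact Subgroup.card_eq_one.1 hn
  have hinj : Function.Injective π := (MonoidHom.ker_eq_bot_iff π).1 h1
  let e : Γ ≃* S := MulEquiv.ofBijective π ⟨hinj, hπ.surj⟩
  have he : ∀ t : S, π (e.symm t) = t := fun t => e.apply_symm_apply t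
  refine ⟨e.symm x, e.symm y, e.symm z, he x, he y, he z, ?_, ?_, ?_, ?_⟩
  · rw [← map_mul, ← map_mul, h, map_one]
  · rwa [e.symm.orderOf_eq]
  · rwa [e.symm.orderOf_eq]
  · rwa [e.symm.orderOf_eq]

/-- central lifting from a universal cover `U` in which the triple lifts -/
theorem CLift.of_universal [Finite S] {m : ℕ} (hm0 : m ≠ 0) (hm : MultDvd S m) {U : Type} [Group U]
    [Finite U] {υ : U →* S} (hυ : IsCover υ) (hcard : Nat.card υ.ker = m) {x y z : U} (h : x * y * z = 1)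
    (hx : ¬ s ∣ orderOf x) (hy : ¬ s ∣ orderOf y) (hz : ¬ s ∣ orderOf z) : CLift s (υ x) (υ y) (υ z) := by
  intro Γ _ _ π hπ _
  obtain ⟨θ, -, hθ⟩ := Cfsg.Agent.H80.Fpf.exists_of_universal hm0 hm hυ hcard hπ
  refine ⟨θ x, θ y, θ z, hθ x, hθ y, hθ z, ?_, ?_, ?_, ?_⟩
  · rw [← map_mul, ← map_mul, h, map_one]
  · exact fun h1 => hx (h1.trans (orderOf_map_dvd θ x))
  · exact fun h1 => hy (h1.trans (orderOf_map_dvd θ y))
  · exact fun h1 => hz (h1.trans (orderOf_map_dvd θ z))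

theorem CLift.rot {x y z : S} (h : CLift s x y z) : CLift s y z x := by
  intro Γ _ _ π hπ hk
  obtain ⟨x', y', z', h1, h2, h3, h4, h5, h6, h7⟩ := h Γ π hπ hk
  refine ⟨y', z', x', h2, h3, h1, ?_, h6, h7, h5⟩
  have h8 : y' * z' = x'⁻¹ := eq_inv_of_mul_eq_one_right (by rw [← mul_assoc]; exact h4)
  rw [h8, inv_mul_cancel]

theorem CLift.swap {x y z : S} (h : CLift s x y z) : CLift s z⁻¹ y⁻¹ x⁻¹ := by
  intro Γ _ _ π hπ hk
  obtain ⟨x', y', z', h1, h2, h3, h4, h5, h6, h7⟩ := h Γ π hπ hk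
  refine ⟨z'⁻¹, y'⁻¹, x'⁻¹, by rw [map_inv, h3], by rw [map_inv, h2], by rw [map_inv, h1], ?_, by rwa [orderOf_inv],
    by rwa [orderOf_inv], by rwa [orderOf_inv]⟩
  have h8 : z'⁻¹ * y'⁻¹ * x'⁻¹ = (x' * y' * z')⁻¹ := by group
  rw [h8, h4, inv_one]

theorem CLift.congr (e : S ≃* T) {x y z : S} (h : CLift s x y z) : CLift s (e x) (e y) (e z) := by
  intro Γ _ _ π hπ hk
  have h0 := hπ.equiv_comp e.symm
  have hker : ∀ g : Γ, g ∈ (e.symm.toMonoidHom.comp π).ker → g ∈ π.ker := by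
    intro g hg
    rw [MonoidHom.mem_ker] at hg ⊢
    apply e.symm.injective
    rw [map_one]
    exact hg
  have hk' : IsPGroup s (e.symm.toMonoidHom.comp π).ker := by
    rintro ⟨g, hg⟩
    obtain ⟨j, hj⟩ := hk ⟨g, hker g hg⟩
    refine ⟨j, Subtype.ext ?_⟩
    have hj1 : g ^ s ^ j = 1 := congrArg Subtype.val hj
    exact hj1
  obtain ⟨x', y', z', h1, h2, h3, h4⟩ := h Γ _ h0 hk'
  refine ⟨x', y', z', ?_, ?_, ?_, h4⟩
  · rw [← h1]; exact (e.apply_symm_apply _).symm
  · rw [← h2]; exact (e.apply_symm_apply _).symm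
  · rw [← h3]; exact (e.apply_symm_apply _).symm

theorem TripABC.rot (h : TripABC a b c S) : TripABC b c a S := by
  obtain ⟨ha, hb, hc, hab, hac, hbc, x, y, z, hx, hy, hz, h1, h2⟩ := h
  refine ⟨hb, hc, ha, hbc, hab.symm, hac.symm, y, z, x, hy, hz, hx, ?_,
    fun s hs hs2 h3 h4 h5 h6 => (h2 s hs hs2 h5 h3 h4 h6).rot⟩
  have h8 : y * z = x⁻¹ := eq_inv_of_mul_eq_one_right (by rw [← mul_assoc]; exact h1)
  rw [h8, inv_mul_cancel]

theorem TripABC.swap (h : TripABC a b c S) : TripABC c b a S := by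
  obtain ⟨ha, hb, hc, hab, hac, hbc, x, y, z, hx, hy, hz, h1, h2⟩ := h
  refine ⟨hc, hb, ha, hbc.symm, hac.symm, hab.symm, z⁻¹, y⁻¹, x⁻¹, hz.inv, hy.inv, hx.inv, ?_,
    fun s hs hs2 h3 h4 h5 h6 => (h2 s hs hs2 h5 h4 h3 h6).swap⟩
  have h8 : z⁻¹ * y⁻¹ * x⁻¹ = (x * y * z)⁻¹ := by group
  rw [h8, h1, inv_one]

theorem TripABC.congr (e : S ≃* T) (h : TripABC a b c S) : TripABC a b c T := by
  obtain ⟨ha, hb, hc, hab, hac, hbc, x, y, z, hx, hy, hz, h1, h2⟩ := h
  refine ⟨ha, hb, hc, hab, hac, hbc, e x, e y, e z, hx.congr e, hy.congr e, hz.congr e, ?_,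
    fun s hs hs2 h3 h4 h5 h6 => (h2 s hs hs2 h3 h4 h5 ?_).congr e⟩
  · rw [← map_mul, ← map_mul, h1, map_one]
  · rwa [Nat.card_congr e.toEquiv]

/-- a triple in a group whose Schur multiplier has order dividing `m`, the odd primes dividing `m` among `a, b, c` -/
theorem TripABC.of_mult {m : ℕ} (hm : MultDvd S m) (hm' : ∀ s : ℕ, s.Prime → s ∣ m → s = 2 ∨ s = a ∨ s = b ∨ s = c)
    (ha : a.Prime) (hb : b.Prime) (hc : c.Prime) (hab : a ≠ b) (hac : a ≠ c) (hbc : b ≠ c) {x y z : S} (hx : PE a x)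
    (hy : PE b y) (hz : PE c z) (h : x * y * z = 1) : TripABC a b c S := by
  refine ⟨ha, hb, hc, hab, hac, hbc, x, y, z, hx, hy, hz, h, fun s hs hs2 h3 h4 h5 _ => ?_⟩
  refine CLift.of_mult hs hm (fun h6 => ?_) h (hx.not_dvd ha hs h3) (hy.not_dvd hb hs h4) (hz.not_dvd hc hs h5)
  rcases hm' s hs h6 with h7 | h7 | h7 | h7
  · exact hs2 h7
  · exact h3 h7
  · exact h4 h7
  · exact h5 h7

/-- a triple in a universal cover -/
theorem TripABC.of_universal [Finite S] {m : ℕ} (hm0 : m ≠ 0) (hm : MultDvd S m) {U : Type} [Group U] [Finite U]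
    {υ : U →* S} (hυ : IsCover υ) (hcard : Nat.card υ.ker = m)
    (ha : a.Prime) (hb : b.Prime) (hc : c.Prime) (hab : a ≠ b) (hac : a ≠ c) (hbc : b ≠ c) {x y z : U} (hx : PE a x)
    (hy : PE b y) (hz : PE c z) (hx1 : υ x ≠ 1) (hy1 : υ y ≠ 1) (hz1 : υ z ≠ 1) (h : x * y * z = 1) :
    TripABC a b c S := by
  have key : ∀ {t : ℕ} (_ : t.Prime) {x : U} (_ : PE t x) (_ : υ x ≠ 1), PE t (υ x) := by
    intro t ht x hx hx1
    obtain ⟨-, k, hk⟩ := hx
    refine ⟨hx1, ?_⟩
    have h1 : orderOf (υ x) ∣ t ^ k := by rw [← hk]; exact orderOf_map_dvd υ x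
    obtain ⟨j, -, hj⟩ := (Nat.dvd_prime_pow ht).1 h1
    exact ⟨j, hj⟩
  refine ⟨ha, hb, hc, hab, hac, hbc, υ x, υ y, υ z, key ha hx hx1, key hb hy hy1, key hc hz hz1, ?_,
    fun s hs _ h3 h4 h5 _ => ?_⟩
  · rw [← map_mul, ← map_mul, h, map_one]
  · exact CLift.of_universal hm0 hm hυ hcard h (hx.not_dvd ha hs h3) (hy.not_dvd hb hs h4) (hz.not_dvd hc hs h5)

theorem NotMin.congr {p : ℕ} [Fact p.Prime] (e : S ≃* T) (h : NotMin p S) : NotMin p T := by
  obtain ⟨H, hH, h1⟩ := h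
  refine ⟨H.map e.toMonoidHom, fun h2 => hH ?_, fun h2 => h1 ?_⟩
  · have h3 := congrArg (Subgroup.comap e.toMonoidHom) h2
    rwa [Subgroup.comap_map_eq_self_of_injective e.injective, Subgroup.comap_top] at h3
  · exact Cfsg.Agent.PLocal.PSolvable.isPSolvable_of_injective
      ((H.equivMapOfInjective e.toMonoidHom e.injective).toMonoidHom) (MulEquiv.injective _) h2

theorem Row.congr (e : S ≃* T) (h : Row S) : Row T := by
  intro p hp hd
  have : Fact p.Prime := ⟨hp⟩
  rw [← Nat.card_congr e.toEquiv] at hd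
  rcases h p hp hd with h1 | ⟨a, b, c, h1, h2, h3⟩
  · exact Or.inl (h1.congr e)
  · exact Or.inr ⟨a, b, c, h1, h2, h3.congr e⟩

theorem RowOdd.congr (e : S ≃* T) (h : RowOdd S) : RowOdd T := by
  intro p hp hp2 hd
  have : Fact p.Prime := ⟨hp⟩
  rw [← Nat.card_congr e.toEquiv] at hd
  rcases h p hp hp2 hd with h1 | ⟨a, b, c, h1, h2, h3⟩
  · exact Or.inl (h1.congr e)
  · exact Or.inr ⟨a, b, c, h1, h2, h3.congr e⟩

theorem Row.odd (h : Row S) : RowOdd S := fun p hp _ hd => h p hp hd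

/-- all proper subgroups: a subgroup isomorphic to `T`, `T` not `p`-solvable -/
theorem NotMin.of_injective [Finite S] {K : Type u} [Group K] {p : ℕ} [Fact p.Prime] (f : K →* S)
    (hf : Function.Injective f) (hK : ¬ Cfsg.IsPSolvable p K) (hlt : Nat.card K < Nat.card S) : NotMin p S := by
  refine ⟨f.range, fun h => ?_, fun h => hK ?_⟩
  · have h1 : Function.Surjective f := MonoidHom.range_eq_top.1 h
    exact absurd (Nat.card_congr (Equiv.ofBijective f ⟨hf, h1⟩)) hlt.ne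
  · exact Cfsg.Agent.PLocal.PSolvable.isPSolvable_of_injective (MonoidHom.ofInjective hf).toMonoidHom
      (MulEquiv.injective _) h

/-- subgroups of subgroups -/
theorem NotMin.of_subgroup {p : ℕ} [Fact p.Prime] {H K : Subgroup S} (hHK : H ≤ K) (hK : K ≠ ⊤)
    (hH : ¬ Cfsg.IsPSolvable p H) : NotMin p S :=
  ⟨K, hK, fun h => hH (Cfsg.Agent.PLocal.PSolvable.isPSolvable_of_injective (Subgroup.inclusion hHK)
    (Subgroup.inclusion_injective hHK) h)⟩

/-- a non-abelian simple group of order divisible by `p` is not `p`-solvable -/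
theorem not_isPSolvable_of_simple [Finite S] [IsSimpleGroup S] (hna : ∃ x y : S, x * y ≠ y * x) {p : ℕ} (hp : p.Prime)
    (hd : p ∣ Nat.card S) : ¬ Cfsg.IsPSolvable p S := by
  rintro ⟨n, H, h0, hlast, -, hnorm, hfac⟩
  have key : ∀ i : Fin (n + 1), H i = ⊥ := by
    intro i
    induction i using Fin.induction with
    | zero => exact h0
    | succ i ih =>
      rcases (hnorm i.succ).eq_bot_or_eq_top with h1 | h1
      · exact h1
      exfalso
      have h2 := hfac i
      rw [ih, h1, Subgroup.relIndex_bot_left, Subgroup.card_top] at h2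
      rcases h2 with ⟨m, hm⟩ | hm
      · have : Fact p.Prime := ⟨hp⟩
        have hG : IsPGroup p S := IsPGroup.of_card hm
        have hnil := hG.isNilpotent
        have hc : Subgroup.center S ≠ ⊥ := by
          have := hG.center_nontrivial
          exact (Subgroup.nontrivial_iff_ne_bot _).1 this
        have hct := (inferInstance : (Subgroup.center S).Normal).eq_bot_or_eq_top.resolve_left hc
        obtain ⟨x, y, hxy⟩ := hna
        exact hxy ((Subgroup.mem_center_iff.1 (hct ▸ Subgroup.mem_top y)) x)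
      · exact hp.one_lt.ne' ((Nat.Coprime.symm hm).eq_one_of_dvd hd)
  have h1 := key (Fin.last n)
  rw [hlast] at h1
  obtain ⟨x, y, hxy⟩ := hna
  have h2 : ∀ t : S, t = 1 := fun t => Subgroup.mem_bot.1 (h1 ▸ Subgroup.mem_top t)
  exact hxy (by rw [h2 x, h2 y])

/-- **a section of a proper subgroup**: `f : K → S` not surjective, `g : K → T` onto a non-abelian simple group `T` of
order divisible by `p`, `ker f ≤ ker g` -/
theorem NotMin.of_hom {K : Type u} [Group K] [Finite T] [IsSimpleGroup T]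
    (hna : ∃ x y : T, x * y ≠ y * x) {p : ℕ} (hp : p.Prime) (hd : p ∣ Nat.card T) (f : K →* S) (g : K →* T)
    (hg : Function.Surjective g) (hfg : f.ker ≤ g.ker) (hf : ¬ Function.Surjective f) : NotMin p S := by
  have : Fact p.Prime := ⟨hp⟩
  refine ⟨f.range, fun h => hf (MonoidHom.range_eq_top.1 h), fun h => ?_⟩
  let q : f.range →* T := (QuotientGroup.lift f.ker g hfg).comp (QuotientGroup.quotientKerEquivRange f).symm.toMonoidHom
  have hq : Function.Surjective q := by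
    have h1 : Function.Surjective (QuotientGroup.lift f.ker g hfg) := by
      intro t
      obtain ⟨k, hk⟩ := hg t
      exact ⟨QuotientGroup.mk k, hk⟩
    exact h1.comp (QuotientGroup.quotientKerEquivRange f).symm.surjective
  exact not_isPSolvable_of_simple hna hp hd (Cfsg.Agent.PLocal.PSolvable.isPSolvable_of_surjective q hq h)

/-- a proper subgroup with a simple section of order divisible by `p`, comparing orders -/
theorem NotMin.of_hom_lt [Finite S] {K : Type u} [Group K] [Finite K] [Finite T] [IsSimpleGroup T]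
    (hna : ∃ x y : T, x * y ≠ y * x) {p : ℕ} (hp : p.Prime) (hd : p ∣ Nat.card T) (f : K →* S) (g : K →* T)
    (hg : Function.Surjective g) (hfg : f.ker ≤ g.ker) (hlt : Nat.card K < Nat.card S) : NotMin p S :=
  NotMin.of_hom hna hp hd f g hg hfg fun h => absurd (Nat.card_le_card_of_surjective f h) (not_le.2 hlt)

end Basic

end Cfsg.Agent.H562.PQR
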