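import Cfsg.Agent.H330.Gow
import Cfsg.Agent.S0848
import Cfsg.Agent.S0165
import Cfsg.Agent.H562.PQR.Iface

/-!
# Gow's theorem for elements central in a Sylow subgroup (helper562)

Let `G` be a finite simple group of Lie type in characteristic `r`, let `x`, `y` be elements of `G` whose centralisers
have order prime to `r`, `y` not conjugate to `x⁻¹`. Every `r`-element `z ≠ 1` whose class has size prime to `r` is the
product of a conjugate of `x` and a conjugate of `y`.

* `gow_root`;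
* `tri_char` : triples of type `(a, b, r)`; `tri_reg` : triples of type `(a, b, c)`, `c ≠ r` any prime divisor of `|G|`.
-/

set_option autoImplicit false

namespace Cfsg.Agent.H562.PQR

open Cfsg Subgroup
open Cfsg.Agent.H330 Cfsg.Agent.H330.Gow
open Cfsg.Agent.BpLieP.Big (LocChar)
open Cfsg.Agent.Omega.ML.LieRow.CRB (HasSplitAb)
open scoped ComplexConjugate

/-- the version for groups with an abelian split (B,N)-pair and local characteristic `p` -/
theorem gow_root_of_split {K : Type*} [Group K] [Finite K] {p : ℕ} [Fact p.Prime] (hS : HasSplitAb p K)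
    (hL : LocChar p K) (hcen : center K = ⊥) (hperf : commutator K = ⊤) {x y z : K}
    (hx : ¬ p ∣ Nat.card ↥(centralizer ({x} : Set K))) (hy : ¬ p ∣ Nat.card ↥(centralizer ({y} : Set K)))
    (hxy : ¬ IsConj x y⁻¹) (hzp : p ∣ orderOf z) (hzc : ¬ p ∣ (centralizer ({z} : Set K)).index) :
    ∃ g h : K, g * x * g⁻¹ * (h * y * h⁻¹) = z := by
  classical
  have hp : p.Prime := Fact.out
  have : Fintype (IrrCharacter K) := @Fintype.ofFinite _ S0909.finite_irr
  obtain ⟨M, hM⟩ := Blocks.ExistsModular.exists_isPModular hp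
  have hMp := Blocks.Local.isPrime_of_isPModular hM
  have hdvd := dvd_card (hasSplit_of_ab hS)
  obtain ⟨χ, hχ, hχ1, hχv⟩ := GowSt.exists_st_of_hasSplit (hasSplit_of_ab hS)
  let st : IrrCharacter K := ⟨χ, hχ⟩
  have hdeg : charDegree χ = p ^ (Nat.card K).factorization p := Blocks.Basic.charDegree_of_eq hχ1
  have hst : ¬ p ∣ Nat.card K / charDegree (st : K → ℂ) := by
    rw [H143.ChevBlocks.not_dvd_iff st.2]
    show _ ≤ (charDegree χ).factorization p
    rw [hdeg, hp.factorization_pow]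
    simp
  have huniq : ∀ ψ : IrrCharacter K, ¬ p ∣ Nat.card K / charDegree (ψ : K → ℂ) → ψ = st := fun ψ hψ =>
    GowOne.unique_of_hasSplitAb hS hperf ψ st hψ hst
  by_contra hcon
  push Not at hcon
  have hcount : Nat.card {q : K × K // q.1 * x * q.1⁻¹ * (q.2 * y * q.2⁻¹) = z} = 0 := by
    have : IsEmpty {q : K × K // q.1 * x * q.1⁻¹ * (q.2 * y * q.2⁻¹) = z} := ⟨fun q => hcon _ _ q.2⟩
    exact Nat.card_of_isEmpty
  have hsum := Characters.ClassMul.card_conj_mul_conj x y z
  rw [hcount, Nat.cast_zero] at hsum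
  have hc0 : (Nat.card K : ℂ) ≠ 0 := by exact_mod_cast Nat.card_pos.ne'
  have hsum0 := (mul_eq_zero.1 hsum.symm).resolve_left hc0
  -- the sum of the `χ(x) χ(y) ω_χ(z⁻¹)` vanishes
  have hsum1 : ∑ ψ : IrrCharacter K, (ψ : K → ℂ) x * (ψ : K → ℂ) y * centralChar (ψ : K → ℂ) z⁻¹ = 0 := by
    have h1 : ∀ ψ : IrrCharacter K, (ψ : K → ℂ) x * (ψ : K → ℂ) y * centralChar (ψ : K → ℂ) z⁻¹ =
        ((centralizer ({z⁻¹} : Set K)).index : ℂ) *
          ((ψ : K → ℂ) x * (ψ : K → ℂ) y * conj ((ψ : K → ℂ) z) / (ψ : K → ℂ) 1) := by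
      intro ψ
      unfold centralChar
      rw [Blocks.CyclicUpper.conj_irr ψ z]
      ring
    rw [Finset.sum_congr rfl fun ψ _ => h1 ψ, ← Finset.mul_sum, hsum0, mul_zero]
  -- the index of the centraliser
  set m : ℕ := (centralizer ({z⁻¹} : Set K)).index with hm
  have hcz : centralizer ({z⁻¹} : Set K) = centralizer ({z} : Set K) := by
    ext g
    rw [mem_centralizer_singleton_iff, mem_centralizer_singleton_iff]
    constructor
    · intro h
      have h1 : Commute g z⁻¹ := h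
      exact (Commute.inv_right_iff.1 h1)
    · intro h
      have h1 : Commute g z := h
      exact (Commute.inv_right_iff.2 h1)
  have hmp : ¬ p ∣ m := by rw [hm, hcz]; exact hzc
  have hzip : p ∣ orderOf z⁻¹ := by rwa [orderOf_inv]
  -- the Steinberg character vanishes at `z⁻¹`
  have hst0 : (st : K → ℂ) z⁻¹ = 0 := by
    obtain ⟨l, ρ, hρ, hρχ⟩ := hχ
    have h0 : (st : K → ℂ) = ρ.character := hρχ.symm
    rw [h0]
    refine S0165.result ρ p ((Nat.card K).factorization p) hp (Nat.ordProj_dvd _ _) ?_ ?_ z⁻¹ hzip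
    · exact Nat.pow_succ_factorization_not_dvd Nat.card_pos.ne' hp
    · have h1 : ((Module.finrank ℂ (Fin l → ℂ) : ℕ) : ℂ) = ((p ^ (Nat.card K).factorization p : ℕ) : ℂ) := by
        rw [← ρ.char_one, ← h0]; exact hχ1
      have h2 : Module.finrank ℂ (Fin l → ℂ) = p ^ (Nat.card K).factorization p := by exact_mod_cast h1
      rw [h2]
  -- the other characters
  have hint : ∀ ψ : IrrCharacter K, MemLocalRing M ((ψ : K → ℂ) x * (ψ : K → ℂ) y) := fun ψ =>
    Blocks.Local.memLocalRing_of_isIntegral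
      ((CharactersDeep.ModCongr.isIntegral_irr ψ.2 x).mul (CharactersDeep.ModCongr.isIntegral_irr ψ.2 y))
  have hmem : ∀ ψ : IrrCharacter K, ψ ≠ st →
      MemLocalIdeal M ((ψ : K → ℂ) x * (ψ : K → ℂ) y * ((m : ℂ) - centralChar (ψ : K → ℂ) z⁻¹)) := by
    intro ψ hψ
    refine Blocks.Local.memLocalIdeal_mul_left (hint ψ) ?_
    have h1 := GowBlock.mem_principal hM hdvd hL hcen st hst huniq ψ hψ z⁻¹
    have h2 : centralChar (fun _ : K => (1 : ℂ)) z⁻¹ = (m : ℂ) := by
      unfold centralChar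
      rw [mul_one, div_one]
    rwa [h2] at h1
  -- column orthogonality
  have horth : ∑ ψ : IrrCharacter K, (ψ : K → ℂ) x * (ψ : K → ℂ) y = 0 := by
    have h1 := S0848.column_orth x y⁻¹
    have h2 : Nat.card {a : K // a * x * a⁻¹ = y⁻¹} = 0 := by
      have : IsEmpty {a : K // a * x * a⁻¹ = y⁻¹} := ⟨fun a => hxy (isConj_iff.2 ⟨a, a.2⟩)⟩
      exact Nat.card_of_isEmpty
    rw [h2, Nat.cast_zero] at h1
    rw [h1]
    refine Finset.sum_congr rfl fun ψ _ => ?_
    rw [← Blocks.CyclicUpper.conj_irr ψ y]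
    simp
  have hval : ∀ w : K, ¬ p ∣ Nat.card ↥(centralizer ({w} : Set K)) → χ w = 1 ∨ χ w = -1 := by
    intro w hw
    have h1 : ¬ p ∣ orderOf w := by
      intro h
      apply hw
      refine h.trans ?_
      have h2 : w ∈ centralizer ({w} : Set K) := mem_centralizer_singleton_iff.2 rfl
      rw [← orderOf_mk w h2]
      exact orderOf_dvd_natCard _
    have h3 := hχv w h1
    rw [Nat.factorization_eq_zero_of_not_dvd hw, pow_zero, Nat.cast_one] at h3
    exact h3
  have hfin : MemLocalIdeal M (χ x * χ y * (m : ℂ)) := by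
    have h1 : ∑ ψ ∈ Finset.univ.erase st, (ψ : K → ℂ) x * (ψ : K → ℂ) y * ((m : ℂ) - centralChar (ψ : K → ℂ) z⁻¹) =
        - (χ x * χ y * (m : ℂ)) := by
      have h2 : ∑ ψ : IrrCharacter K, (ψ : K → ℂ) x * (ψ : K → ℂ) y * ((m : ℂ) - centralChar (ψ : K → ℂ) z⁻¹) = 0 := by
        simp only [mul_sub]
        rw [Finset.sum_sub_distrib, hsum1, ← Finset.sum_mul, horth, zero_mul, sub_zero]
      rw [← Finset.add_sum_erase Finset.univ _ (Finset.mem_univ st)] at h2
      have h3 : centralChar (st : K → ℂ) z⁻¹ = 0 := by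
        unfold centralChar
        rw [hst0, mul_zero, zero_div]
      rw [h3, sub_zero] at h2
      exact eq_neg_of_add_eq_zero_right h2
    have h4 : MemLocalIdeal M (- (χ x * χ y * (m : ℂ))) := by
      rw [← h1]
      exact Blocks.Local.memLocalIdeal_sum fun ψ hψ => hmem ψ (Finset.ne_of_mem_erase hψ)
    exact (Blocks.Local.memLocalIdeal_neg_iff).1 h4
  have hmm : MemLocalIdeal M (m : ℂ) := by
    rcases hval x hx with h2 | h2 <;> rcases hval y hy with h3 | h3 <;>
      rw [h2, h3] at hfin <;> simpa [Blocks.Local.memLocalIdeal_neg_iff] using hfin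
  exact hmp ((Blocks.Local.memLocalIdeal_natCast_iff hM m).1 hmm)

/-- **Gow's theorem for `r`-elements with class size prime to `r`.** -/
theorem gow_root {G : Type*} [Group G] [Finite G] {r : ℕ} (hr : r.Prime) (hG : IsLieTypeChar r G) {x y z : G}
    (hx : ¬ r ∣ Nat.card ↥(centralizer ({x} : Set G))) (hy : ¬ r ∣ Nat.card ↥(centralizer ({y} : Set G)))
    (hxy : ¬ IsConj x y⁻¹) (hzr : r ∣ orderOf z) (hzc : ¬ r ∣ (centralizer ({z} : Set G)).index) :
    ∃ g h : G, g * x * g⁻¹ * (h * y * h⁻¹) = z := by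
  have : Fact r.Prime := ⟨hr⟩
  have : IsSimpleGroup G := H400.LieSimple.isSimple_of_lie hG
  have hS := H716.SplitAb.hasSplitAb_of_lie hr hG
  exact gow_root_of_split hS (locChar_of_lie hG) (H400.LieLocal.center_eq_bot (hasSplit_of_ab hS))
    (perfect_of_split (hasSplit_of_ab hS)) hx hy hxy hzr hzc

/-- an element of order `r` whose class has size prime to `r` -/
theorem exists_central_elt {G : Type*} [Group G] [Finite G] {r : ℕ} (hr : r.Prime) (hd : r ∣ Nat.card G) :
    ∃ z : G, orderOf z = r ∧ ¬ r ∣ (centralizer ({z} : Set G)).index := by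
  have : Fact r.Prime := ⟨hr⟩
  obtain ⟨P⟩ : Nonempty (Sylow r G) := inferInstance
  have hP : Nontrivial P := by
    rw [← Finite.one_lt_card_iff_nontrivial, P.card_eq_multiplicity]
    exact Nat.one_lt_pow (hr.factorization_pos_of_dvd Nat.card_pos.ne' hd).ne' hr.one_lt
  have hc := P.isPGroup'.center_nontrivial
  obtain ⟨n, hn⟩ := IsPGroup.iff_card.1 (P.isPGroup'.to_subgroup (center P))
  have h1 : r ∣ Nat.card (center P) := by
    rw [hn]
    refine dvd_pow_self r fun h0 => ?_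
    rw [h0, pow_zero] at hn
    exact (Finite.one_lt_card_iff_nontrivial.2 hc).ne' hn
  obtain ⟨z, hz⟩ := exists_prime_orderOf_dvd_card' r h1
  refine ⟨((z : P) : G), ?_, fun h2 => ?_⟩
  · rw [Subgroup.orderOf_coe, Subgroup.orderOf_coe]; exact hz
  · have h3 : (P : Subgroup G) ≤ centralizer ({((z : P) : G)} : Set G) := by
      intro u hu
      rw [mem_centralizer_singleton_iff]
      have h4 := mem_center_iff.1 z.2 ⟨u, hu⟩
      exact congrArg Subtype.val h4
    exact P.not_dvd_index (h2.trans (Subgroup.index_dvd_of_le h3))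

/-- **Triples of type `(a, b, r)`**, `r` the characteristic -/
theorem tri_char {G : Type*} [Group G] [Finite G] {r : ℕ} (hr : r.Prime) (hG : IsLieTypeChar r G) {a b : ℕ}
    (ha : a.Prime) (hb : b.Prime) (hab : a ≠ b) {x y : G} (hxa : PE a x) (hyb : PE b y)
    (hx : ¬ r ∣ Nat.card ↥(centralizer ({x} : Set G))) (hy : ¬ r ∣ Nat.card ↥(centralizer ({y} : Set G))) :
    ∃ x y z : G, PE a x ∧ PE b y ∧ PE r z ∧ x * y * z = 1 := by
  have : Fact r.Prime := ⟨hr⟩
  have : IsSimpleGroup G := H400.LieSimple.isSimple_of_lie hG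
  have hd : r ∣ Nat.card G := dvd_card (hasSplit_of_ab (H716.SplitAb.hasSplitAb_of_lie hr hG))
  obtain ⟨z, hz, hzc⟩ := exists_central_elt hr hd
  have hxy : ¬ IsConj x y⁻¹ := by
    intro h
    obtain ⟨g, hg⟩ := isConj_iff.1 h
    have h1 := (hxa.conj g)
    rw [hg] at h1
    obtain ⟨h2, k, hk⟩ := h1
    obtain ⟨j, hj⟩ := hyb.inv.2
    rw [hk] at hj
    have h3 : k = 0 := by
      by_contra h3
      have h4 : a ∣ b ^ j := by rw [← hj]; exact dvd_pow_self a h3
      exact hab ((Nat.prime_dvd_prime_iff_eq ha hb).1 (ha.dvd_of_dvd_pow h4))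
    rw [h3, pow_zero, orderOf_eq_one_iff] at hk
    exact h2 hk
  obtain ⟨g, h, hgh⟩ := gow_root hr hG hx hy hxy (by rw [hz]) hzc
  refine ⟨g * x * g⁻¹, h * y * h⁻¹, z⁻¹, hxa.conj g, hyb.conj h, (PE.of_orderOf hr hz).inv, ?_⟩
  rw [hgh, mul_inv_cancel]

/-- **Triples of type `(a, b, c)`**, `c` different from the characteristic -/
theorem tri_reg {G : Type*} [Group G] [Finite G] {r : ℕ} (hr : r.Prime) (hG : IsLieTypeChar r G) {a b c : ℕ}
    (hc : c.Prime) (hcr : c ≠ r) (hcG : c ∣ Nat.card G) {x y : G} (hxa : PE a x) (hyb : PE b y)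
    (hx : ¬ r ∣ Nat.card ↥(centralizer ({x} : Set G))) (hy : ¬ r ∣ Nat.card ↥(centralizer ({y} : Set G))) :
    ∃ x y z : G, PE a x ∧ PE b y ∧ PE c z ∧ x * y * z = 1 := by
  have : Fact c.Prime := ⟨hc⟩
  obtain ⟨z, hz⟩ := exists_prime_orderOf_dvd_card' c hcG
  have hz1 := PE.of_orderOf hc hz
  obtain ⟨g, h, hgh⟩ := gow hr hG hx hy hz1.1 (by
    rw [hz]
    exact fun h1 => hcr ((Nat.prime_dvd_prime_iff_eq hr hc).1 h1).symm)
  refine ⟨g * x * g⁻¹, h * y * h⁻¹, z⁻¹, hxa.conj g, hyb.conj h, hz1.inv, ?_⟩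
  rw [hgh, mul_inv_cancel]

end Cfsg.Agent.H562.PQR
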